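import Mathlib

/-!
# Logarithmic derivatives of power series and characteristic polynomials
-/

set_option autoImplicit false
set_option linter.unusedSectionVars false
universe u v

open PowerSeries Matrix

noncomputable section

namespace Groth.Agent.ZetaAlg

/-- The derivative of a finite product. -/
lemma derivation_prod {R A : Type*} [CommRing R] [CommRing A] [Algebra R A] (D : Derivation R A A)
    {ι : Type*} [DecidableEq ι] (s : Finset ι) (f : ι → A) :
    D (∏ i ∈ s, f i) = ∑ i ∈ s, ∏ j ∈ s, Function.update f i (D (f i)) j := by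
  induction s using Finset.induction_on with
  | empty => simp
  | insert a s ha ih =>
    rw [Finset.prod_insert ha, D.leibniz, ih, Finset.sum_insert ha, Finset.prod_insert ha,
      Function.update_self, smul_eq_mul, smul_eq_mul, Finset.mul_sum, add_comm]
    congr 1
    · rw [mul_comm]
      congr 1
      exact Finset.prod_congr rfl fun j hj => by
        rw [Function.update_of_ne (by rintro rfl; exact ha hj)]
    · refine Finset.sum_congr rfl fun i hi => ?_
      rw [Finset.prod_insert ha, Function.update_of_ne (by rintro rfl; exact ha hi)]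

variable {n : Type v} [Fintype n] [DecidableEq n]

/-- Jacobi's formula. -/
lemma derivation_det {R A : Type*} [CommRing R] [CommRing A] [Algebra R A] (D : Derivation R A A)
    (M : Matrix n n A) : D M.det = Matrix.trace (M.adjugate * M.map D) := by
  have h₁ : D M.det = ∑ i, (M.updateCol i fun r => D (M r i)).det := by
    simp only [Matrix.det_apply', map_sum, Derivation.leibniz, Derivation.map_intCast, smul_eq_mul,
      mul_zero, add_zero]
    rw [Finset.sum_comm (γ := n)]
    refine Finset.sum_congr rfl fun σ _ => ?_
    rw [derivation_prod D Finset.univ, Finset.mul_sum]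
    refine Finset.sum_congr rfl fun i _ => ?_
    congr 1
    refine Finset.prod_congr rfl fun j _ => ?_
    by_cases h : j = i
    · subst h; simp
    · simp [Function.update_of_ne h, Matrix.updateCol_ne h]
  rw [h₁, Matrix.trace]
  refine Finset.sum_congr rfl fun i _ => ?_
  rw [← Matrix.cramer_apply, Matrix.cramer_eq_adjugate_mulVec]
  rfl

variable {K : Type u} [Field K]

/-- `f` has logarithmic derivative `h`. -/
def HasLD (f h : PowerSeries K) : Prop := d⁄dX K f = f * h

lemma hasLD_one : HasLD (1 : PowerSeries K) 0 := by simp [HasLD]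

lemma HasLD.mul {f g h k : PowerSeries K} (hf : HasLD f h) (hg : HasLD g k) :
    HasLD (f * g) (h + k) := by
  rw [HasLD, Derivation.leibniz, hf, hg, smul_eq_mul, smul_eq_mul]
  ring

lemma HasLD.prod {ι : Type*} (s : Finset ι) {f h : ι → PowerSeries K}
    (hf : ∀ i ∈ s, HasLD (f i) (h i)) : HasLD (∏ i ∈ s, f i) (∑ i ∈ s, h i) := by
  classical
  induction s using Finset.induction_on with
  | empty => simpa using hasLD_one
  | insert a s ha ih =>
    rw [Finset.prod_insert ha, Finset.sum_insert ha]
    exact (hf a (Finset.mem_insert_self a s)).mul (ih fun i hi => hf i (Finset.mem_insert_of_mem hi))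

lemma HasLD.ext [CharZero K] {f g h : PowerSeries K} (hf : HasLD f h) (hg : HasLD g h)
    (h0 : constantCoeff f = constantCoeff g) (hne : constantCoeff g ≠ 0) : f = g := by
  have h1 : f * g⁻¹ = 1 := by
    refine PowerSeries.derivative.ext ?_ ?_
    · rw [Derivation.leibniz, derivative_inv', hf, hg, derivative_one, smul_eq_mul, smul_eq_mul]
      have e : g⁻¹ * g = 1 := PowerSeries.inv_mul_cancel _ hne
      linear_combination (-f * g⁻¹ * h) * e
    · simp [h0, hne]
  calc f = f * g⁻¹ * g := by rw [mul_assoc, PowerSeries.inv_mul_cancel _ hne, mul_one]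
    _ = g := by rw [h1, one_mul]

/-- The exponential of a series without constant term. -/
lemma hasLD_exp_subst [CharZero K] {L : PowerSeries K} (hL : constantCoeff L = 0) :
    HasLD (subst L (exp K)) (d⁄dX K L) := by
  rw [HasLD, derivative_subst (HasSubst.of_constantCoeff_zero' hL), derivative_exp]

lemma constantCoeff_exp_subst [CharZero K] {L : PowerSeries K} (hL : constantCoeff L = 0) :
    constantCoeff (subst L (exp K)) = 1 := by
  rw [← coeff_zero_eq_constantCoeff_apply,
    coeff_subst' (HasSubst.of_constantCoeff_zero' hL), finsum_eq_single _ 0]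
  · simp
  · intro m hm
    rw [coeff_zero_eq_constantCoeff_apply (L ^ m), map_pow, hL, zero_pow hm, smul_zero]

/-- The derivative of the series with coefficients `a m / m`. -/
lemma derivative_mk_div [CharZero K] (a : ℕ → K) :
    d⁄dX K (PowerSeries.mk fun m : ℕ => a m / (m : K)) = PowerSeries.mk fun m => a (m + 1) := by
  ext m
  rw [coeff_derivative, coeff_mk, coeff_mk]
  push_cast
  field_simp

/-- The logarithmic derivative of the reversed characteristic polynomial. -/
lemma hasLD_charpolyRev (M : Matrix n n K) :
    HasLD ((M.charpolyRev : Polynomial K) : PowerSeries K)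
      (PowerSeries.mk fun m => -Matrix.trace (M ^ (m + 1))) := by
  let A : Matrix n n (PowerSeries K) := 1 - (PowerSeries.X : PowerSeries K) • M.map PowerSeries.C
  let S : Matrix n n (PowerSeries K) := Matrix.of fun i j => PowerSeries.mk fun m => (M ^ m) i j
  have hdet : ((M.charpolyRev : Polynomial K) : PowerSeries K) = A.det := by
    rw [Matrix.charpolyRev, ← Polynomial.coeToPowerSeries.ringHom_apply, RingHom.map_det]
    congr 1
    ext i j : 2
    simp [A, Matrix.one_apply, apply_ite]
    ring
  have hAS : A * S = 1 := by
    change (1 - (PowerSeries.X : PowerSeries K) • M.map PowerSeries.C) * S = 1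
    rw [Matrix.sub_mul, Matrix.one_mul, Matrix.smul_mul]
    refine Matrix.ext fun i j => PowerSeries.ext fun m => ?_
    simp only [Matrix.sub_apply, Matrix.smul_apply,
      smul_eq_mul, Matrix.mul_apply, Matrix.map_apply, map_sub]
    cases m with
    | zero => by_cases h : i = j <;> simp [S, Matrix.one_apply, h]
    | succ m =>
      rw [PowerSeries.coeff_succ_X_mul, map_sum]
      simp only [S, Matrix.of_apply, PowerSeries.coeff_mk, PowerSeries.coeff_C_mul]
      rw [pow_succ', Matrix.mul_apply, sub_self]
      by_cases h : i = j <;> simp [Matrix.one_apply, h]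
  have hadj : A.adjugate = A.det • S := by
    rw [← mul_one A.adjugate, ← hAS, ← Matrix.mul_assoc, Matrix.adjugate_mul, Matrix.smul_mul,
      Matrix.one_mul]
  have hDA : A.map (d⁄dX K) = -(M.map PowerSeries.C) := by
    ext i j : 1
    simp [A, Matrix.one_apply, apply_ite]
  rw [HasLD, hdet, derivation_det, hadj, hDA, Matrix.smul_mul, Matrix.trace_smul, smul_eq_mul]
  congr 1
  ext m
  simp only [Matrix.trace, Matrix.diag, Matrix.mul_apply, Matrix.neg_apply, Matrix.map_apply, map_sum,
    mul_neg, map_neg, PowerSeries.coeff_mul_C, S, Matrix.of_apply, PowerSeries.coeff_mk, pow_succ,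
    Finset.sum_neg_distrib]

lemma constantCoeff_charpolyRev (M : Matrix n n K) :
    constantCoeff ((M.charpolyRev : Polynomial K) : PowerSeries K) = 1 := by
  rw [Polynomial.constantCoeff_coe, Polynomial.coeff_zero_eq_eval_zero, Matrix.eval_charpolyRev]

/-- The exponential formula for the reversed characteristic polynomial. -/
theorem charpolyRev_eq_exp [CharZero K] (M : Matrix n n K) :
    ((M.charpolyRev : Polynomial K) : PowerSeries K) =
      subst (PowerSeries.mk fun m : ℕ => -(Matrix.trace (M ^ m)) / (m : K)) (exp K) := by
  have h0 : constantCoeff (PowerSeries.mk fun m : ℕ => -(Matrix.trace (M ^ m)) / (m : K)) = 0 := by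
    simp [← coeff_zero_eq_constantCoeff_apply]
  refine (hasLD_charpolyRev M).ext ?_ ?_ ?_
  · have h := hasLD_exp_subst h0
    rwa [derivative_mk_div fun m => -(Matrix.trace (M ^ m))] at h
  · rw [constantCoeff_charpolyRev, constantCoeff_exp_subst h0]
  · rw [constantCoeff_exp_subst h0]; exact one_ne_zero

/-- A power series with coefficients in a subfield, rational over the big field, is rational. -/
theorem exists_polynomial_descent {L : Type u} {L' : Type v} [Field L] [Field L'] [Algebra L L']
    (f : PowerSeries L)
    (h : ∃ P Q : Polynomial L', Q ≠ 0 ∧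
      PowerSeries.map (algebraMap L L') f * (Q : PowerSeries L') = (P : PowerSeries L')) :
    ∃ P Q : Polynomial L, Q ≠ 0 ∧ f * (Q : PowerSeries L) = (P : PowerSeries L) := by
  obtain ⟨P, Q, hQ, e⟩ := h
  obtain ⟨ℓ, hℓ⟩ : ∃ ℓ : L' →ₗ[L] L, ℓ Q.leadingCoeff ≠ 0 := by
    by_contra hne
    simp only [not_exists, not_not] at hne
    exact Polynomial.leadingCoeff_ne_zero.mpr hQ
      ((Module.forall_dual_apply_eq_zero_iff L _).mp hne)
  let m := max P.natDegree Q.natDegree + 1
  let tr : Polynomial L' → Polynomial L :=
    fun R => ∑ i ∈ Finset.range m, Polynomial.monomial i (ℓ (R.coeff i))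
  have htr : ∀ R : Polynomial L', R.natDegree < m → ∀ i, (tr R).coeff i = ℓ (R.coeff i) := by
    intro R hR i
    simp only [tr, Polynomial.finsetSum_coeff, Polynomial.coeff_monomial, Finset.sum_ite_eq',
      Finset.mem_range]
    split_ifs with hi
    · rfl
    · rw [Polynomial.coeff_eq_zero_of_natDegree_lt (by omega), map_zero]
  have hQm : Q.natDegree < m := by omega
  refine ⟨tr P, tr Q, fun h0 => hℓ ?_, PowerSeries.ext fun j => ?_⟩
  · rw [Polynomial.leadingCoeff, ← htr Q hQm, h0, Polynomial.coeff_zero]
  · have hj := congrArg (fun g => ℓ (coeff j g)) e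
    simp only [Polynomial.coeff_coe, PowerSeries.coeff_mul, PowerSeries.coeff_map, map_sum,
      ← Algebra.smul_def, map_smul, smul_eq_mul] at hj
    rw [Polynomial.coeff_coe, htr P (by omega), ← hj, PowerSeries.coeff_mul]
    exact Finset.sum_congr rfl fun p _ => by rw [Polynomial.coeff_coe, htr Q hQm]

end Groth.Agent.ZetaAlg

end
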