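import Mathlib

/-!
# Endomorphisms scaled by a perfect pairing
-/

set_option autoImplicit false
set_option linter.unusedSectionVars false
universe u v w

open Polynomial Matrix

noncomputable section

namespace Groth.Agent.ZetaAlg

variable {K : Type u} [Field K]

lemma det_mul_charpolyRev {n : Type v} [Fintype n] [DecidableEq n] (F G : Matrix n n K) (c : K)
    (h : Fᵀ * G = c • 1) :
    C F.det * G.charpolyRev = (-1) ^ Fintype.card n * F.charpoly.comp (C c * X) := by
  have h₁ : C F.det = (Fᵀ.map C).det := by
    rw [← Matrix.det_transpose F, RingHom.map_det]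
    rfl
  have h₂ : F.charpoly.comp (C c * X) = (Matrix.scalar n (C c * X) - F.map C).det := by
    rw [Matrix.charpoly, ← Polynomial.coe_compRingHom_apply, RingHom.map_det]
    congr 1
    ext i j : 1
    by_cases hij : i = j <;> simp [Matrix.charmatrix, hij]
  have h₃ : Fᵀ.map C * (1 - (X : K[X]) • G.map C) = -(Matrix.scalar n (C c * X) - F.map C)ᵀ := by
    rw [Matrix.mul_sub, Matrix.mul_one, Matrix.mul_smul, ← Matrix.map_mul, h]
    ext i j : 1
    by_cases hij : i = j
    · subst hij; simp
    · simp [hij]
  rw [h₁, h₂, Matrix.charpolyRev, ← Matrix.det_mul, h₃, Matrix.det_neg, Matrix.det_transpose]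

variable {V : Type v} {W : Type w} [AddCommGroup V] [Module K V] [FiniteDimensional K V]
  [AddCommGroup W] [Module K W] [FiniteDimensional K W]

lemma finrank_eq_of_perfPair (B : V →ₗ[K] W →ₗ[K] K) [B.IsPerfPair] :
    Module.finrank K V = Module.finrank K W :=
  B.toPerfPair.finrank_eq.trans Subspace.dual_finrank_eq

/-- The characteristic polynomials of a scaled pair of endomorphisms. -/
theorem det_smul_reverse_charpoly (B : V →ₗ[K] W →ₗ[K] K) [B.IsPerfPair] (f : V →ₗ[K] V)
    (g : W →ₗ[K] W) (c : K) (hfg : ∀ v w, B (f v) (g w) = c * B v w) :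
    LinearMap.det f • (LinearMap.charpoly g).reverse =
      (-1) ^ Module.finrank K V * (LinearMap.charpoly f).comp (C c * X) := by
  classical
  let v := Module.finBasis K V
  let w : Module.Basis (Fin (Module.finrank K V)) K W :=
    v.dualBasis.map B.flip.toPerfPair.symm
  have hw : ∀ i j, B (v i) (w j) = if i = j then 1 else 0 := fun i j => by
    simp only [w, Module.Basis.map_apply]
    rw [LinearMap.apply_toPerfPair_flip]
    rw [Module.Basis.coe_dualBasis, Module.Basis.coord_apply, v.repr_self]
    simp [Finsupp.single_apply]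
  have key : (LinearMap.toMatrix v v f)ᵀ * LinearMap.toMatrix w w g = c • 1 := by
    ext i j
    have := hfg (v i) (w j)
    rw [hw] at this
    rw [← v.sum_repr (f (v i)), ← w.sum_repr (g (w j))] at this
    simp only [map_sum, LinearMap.map_smul, LinearMap.sum_apply, LinearMap.smul_apply, smul_eq_mul,
      hw, mul_ite, mul_one, mul_zero, Finset.sum_ite_eq', Finset.mem_univ, if_true] at this
    simp only [Matrix.mul_apply, Matrix.transpose_apply, LinearMap.toMatrix_apply, Matrix.smul_apply,
      Matrix.one_apply, smul_eq_mul, mul_ite, mul_one, mul_zero]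
    rw [← this]
  have h := det_mul_charpolyRev _ _ c key
  rw [LinearMap.det_toMatrix, LinearMap.charpoly_toMatrix, ← Matrix.reverse_charpoly,
    LinearMap.charpoly_toMatrix, Fintype.card_fin] at h
  rw [Polynomial.smul_eq_C_mul]
  exact h

end Groth.Agent.ZetaAlg

end
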