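import Mathlib

/-!
# Sections on affine pieces of a fibre product with an affine scheme
-/

set_option autoImplicit false
universe u

open AlgebraicGeometry CategoryTheory CategoryTheory.Limits

noncomputable section

namespace Groth.Agent.ZetaAlg

/-- The vertices of a pushout of rings generate it. -/
lemma subring_eq_top_of_isPushout {R A B P : CommRingCat.{u}} {a : R ⟶ A} {b : R ⟶ B}
    {inl : A ⟶ P} {inr : B ⟶ P} (h : IsPushout a b inl inr) (S : Subring P)
    (hl : ∀ x, inl.hom x ∈ S) (hr : ∀ x, inr.hom x ∈ S) : S = ⊤ := by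
  let l : A ⟶ CommRingCat.of S := CommRingCat.ofHom (inl.hom.codRestrict S hl)
  let r : B ⟶ CommRingCat.of S := CommRingCat.ofHom (inr.hom.codRestrict S hr)
  have hw : a ≫ l = b ≫ r := by
    refine CommRingCat.hom_ext (RingHom.ext fun x => Subtype.ext ?_)
    exact congrArg (fun f => f.hom x) h.w
  have hid : h.desc l r hw ≫ CommRingCat.ofHom S.subtype = 𝟙 P := by
    refine h.hom_ext ?_ ?_
    · rw [IsPushout.inl_desc_assoc, Category.comp_id]
      rfl
    · rw [IsPushout.inr_desc_assoc, Category.comp_id]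
      rfl
  refine eq_top_iff.mpr fun x _ => ?_
  have := congrArg (fun f => f.hom x) hid
  simp only [CommRingCat.hom_comp, CommRingCat.hom_ofHom, RingHom.comp_apply] at this
  rw [show x = S.subtype ((h.desc l r hw).hom x) from this.symm]
  exact Subtype.prop _

variable {X Y S T : Scheme.{u}} [IsAffine S] [IsAffine T] {π : Y ⟶ X} {h : Y ⟶ T} {f : X ⟶ S}
  {g : T ⟶ S}

/-- Over an affine open the sections are generated by those of the two factors. -/
lemma subring_eq_top (hπ : IsPullback π h f g) {U : X.Opens} (hU : IsAffineOpen U)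
    (A : Subring Γ(Y, π ⁻¹ᵁ U)) (h₁ : ∀ a, (π.app U).hom a ∈ A)
    (h₂ : ∀ c, (h.appLE ⊤ (π ⁻¹ᵁ U) (by simp)).hom c ∈ A) : A = ⊤ := by
  have : IsAffine U.toScheme := hU
  have hsq : IsPullback (π ∣_ U) ((π ⁻¹ᵁ U).ι ≫ h) (U.ι ≫ f) g :=
    (isPullback_morphismRestrict π U).paste_vert hπ
  have hpo := isPushout_appTop_of_isPullback hsq
  let e := (π ⁻¹ᵁ U).topIso
  have h₃ : ∀ x, (π ∣_ U).appTop.hom x =
      e.inv.hom ((π.app U).hom (U.topIso.hom.hom x)) := by
    intro x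
    rw [← CommRingCat.comp_apply, ← CommRingCat.comp_apply]
    congr 2
    rw [Scheme.Hom.appTop, morphismRestrict_app', Scheme.Hom.app_eq_appLE]
    change _ = X.presheaf.map (eqToHom U.ι_image_top.symm).op ≫ π.appLE U (π ⁻¹ᵁ U) le_rfl ≫
      Y.presheaf.map (eqToHom (π ⁻¹ᵁ U).ι_image_top).op
    rw [Scheme.Hom.map_appLE_assoc, Scheme.Hom.appLE_map]
    rfl
  have h₄ : ∀ c, ((π ⁻¹ᵁ U).ι ≫ h).appTop.hom c =
      e.inv.hom ((h.appLE ⊤ (π ⁻¹ᵁ U) (by simp)).hom c) := by
    intro c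
    rw [← CommRingCat.comp_apply]
    congr 2
    rw [Scheme.Hom.comp_appTop, Scheme.Opens.ι_appTop, Scheme.Hom.appTop, Scheme.Hom.app_eq_appLE]
    change h.appLE ⊤ (h ⁻¹ᵁ ⊤) le_rfl ≫
        Y.presheaf.map (homOfLE (show (π ⁻¹ᵁ U).ι ''ᵁ ⊤ ≤ h ⁻¹ᵁ ⊤ from le_top)).op =
      h.appLE ⊤ (π ⁻¹ᵁ U) (by simp) ≫ Y.presheaf.map (eqToHom (π ⁻¹ᵁ U).ι_image_top).op
    rw [Scheme.Hom.appLE_map]
    exact (h.appLE_map _ _).symm
  have key := subring_eq_top_of_isPushout hpo (A.comap e.hom.hom) (fun x => by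
      rw [Subring.mem_comap, h₃, e.inv_hom_id_apply]
      exact h₁ _) (fun c => by
      rw [Subring.mem_comap, h₄, e.inv_hom_id_apply]
      exact h₂ _)
  refine eq_top_iff.mpr fun x _ => ?_
  have hx : e.inv.hom x ∈ A.comap e.hom.hom := key ▸ Subring.mem_top _
  rwa [Subring.mem_comap, e.inv_hom_id_apply] at hx

end Groth.Agent.ZetaAlg

end
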